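import Mathlib

/-!
Three elements satisfying the relations of the Bruhat decomposition generate a copy of `PGL₂(23)`.
-/

set_option autoImplicit false

namespace Cfsg.Agent.Lib.J4PGL88

instance factTwentyThree : Fact (Nat.Prime 23) := ⟨by norm_num⟩

/-- logarithm to base 5 modulo 23 -/
def dlog (a : ZMod 23) : ℕ :=
  [0, 0, 2, 16, 4, 1, 18, 19, 6, 10, 3, 9, 20, 14, 21, 17, 8, 7, 12, 15, 5, 13, 11].getD a.val 0

/-- inverse modulo 23 -/
def zinv (a : ZMod 23) : ZMod 23 := a ^ 21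

theorem pow_dlog : ∀ a : ZMod 23, a ≠ 0 → (5 : ZMod 23) ^ dlog a = a := by decide

theorem dlog_mul : ∀ a b : ZMod 23, a ≠ 0 → b ≠ 0 → dlog (a * b) % 22 = (dlog a + dlog b) % 22 := by
  decide

theorem dlog_lt : ∀ a : ZMod 23, dlog a < 22 := by decide

/-- elements satisfying the relations -/
structure Data (J : Type*) [Group J] where
  /-- unipotent element -/
  u : J
  /-- torus element -/
  h : J
  /-- Weyl element -/
  w : J
  u23 : u ^ 23 = 1
  h22 : h ^ 22 = 1
  ww : w * w = 1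
  hu : h * u = u ^ 5 * h
  wh : w * h * (w * h) = 1
  rel : ∀ a : ZMod 23, a ≠ 0 → w * u ^ a.val * w =
    u ^ (a⁻¹).val * w * u ^ (-a).val * h ^ dlog (-(a * a))
  u_ne : u ≠ 1
  h11 : h ^ 11 ≠ 1
  h2 : h ^ 2 ≠ 1

variable {J : Type*} [Group J] (D : Data J)

namespace Data

/-- the unipotent elements -/
def U (x : ZMod 23) : J := D.u ^ x.val

/-- the torus elements -/
def T (a : ZMod 23) : J := D.h ^ dlog a

theorem U_zero : D.U 0 = 1 := by simp [U]

theorem U_add (x y : ZMod 23) : D.U x * D.U y = D.U (x + y) := by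
  show D.u ^ x.val * D.u ^ y.val = D.u ^ (x + y).val
  rw [← pow_add, ZMod.val_add, ← pow_eq_pow_mod _ D.u23]

theorem U_natCast (n : ℕ) : D.U (n : ZMod 23) = D.u ^ n := by
  show D.u ^ (n : ZMod 23).val = D.u ^ n
  rw [ZMod.val_natCast, ← pow_eq_pow_mod _ D.u23]

theorem T_mul {a b : ZMod 23} (ha : a ≠ 0) (hb : b ≠ 0) : D.T a * D.T b = D.T (a * b) := by
  show D.h ^ dlog a * D.h ^ dlog b = D.h ^ dlog (a * b)
  rw [← pow_add, pow_eq_pow_mod _ D.h22, ← dlog_mul a b ha hb, ← pow_eq_pow_mod _ D.h22]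

theorem T_one : D.T 1 = 1 := by
  show D.h ^ dlog 1 = 1
  rw [show dlog 1 = 0 by decide, pow_zero]

theorem h_upow (m : ℕ) : D.h * D.u ^ m = D.u ^ (5 * m) * D.h := by
  induction m with
  | zero => simp
  | succ m ih => rw [pow_succ, ← mul_assoc, ih, mul_assoc, D.hu, ← mul_assoc, ← pow_add, Nat.mul_succ]

theorem hpow_upow (n m : ℕ) : D.h ^ n * D.u ^ m = D.u ^ (5 ^ n * m) * D.h ^ n := by
  induction n generalizing m with
  | zero => simp
  | succ n ih =>
    rw [pow_succ, mul_assoc, D.h_upow, ← mul_assoc, ih, mul_assoc]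
    congr 2
    ring

theorem T_U {a : ZMod 23} (ha : a ≠ 0) (x : ZMod 23) : D.T a * D.U x = D.U (a * x) * D.T a := by
  show D.h ^ dlog a * D.u ^ x.val = D.U (a * x) * D.h ^ dlog a
  rw [D.hpow_upow, ← D.U_natCast, Nat.cast_mul, Nat.cast_pow, ZMod.natCast_zmod_val,
    Nat.cast_ofNat, pow_dlog a ha]

theorem w_hpow (n : ℕ) : D.w * D.h ^ n * D.w * D.h ^ n = 1 := by
  have hw : D.w⁻¹ = D.w := inv_eq_of_mul_eq_one_right D.ww
  have h1 : D.w * D.h * D.w = D.h⁻¹ := by
    refine eq_inv_of_mul_eq_one_left ?_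
    rw [mul_assoc]
    exact D.wh
  have h2 : D.w * D.h ^ n * D.w = (D.h⁻¹) ^ n := by
    rw [← h1]
    calc D.w * D.h ^ n * D.w = D.w * D.h ^ n * D.w⁻¹ := by rw [hw]
      _ = (D.w * D.h * D.w⁻¹) ^ n := (conj_pow ..).symm
      _ = (D.w * D.h * D.w) ^ n := by rw [hw]
  rw [h2, inv_pow, inv_mul_cancel]

theorem w_T {a : ZMod 23} (ha : a ≠ 0) : D.T a * D.w = D.w * D.T a⁻¹ := by
  have h1 : D.w * D.T a * D.w * D.T a = 1 := D.w_hpow (dlog a)
  have h2 : D.T a⁻¹ = (D.T a)⁻¹ := by
    refine eq_inv_of_mul_eq_one_left ?_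
    rw [D.T_mul (inv_ne_zero ha) ha, inv_mul_cancel₀ ha, D.T_one]
  rw [h2]
  calc D.T a * D.w = D.w * (D.w * D.T a * D.w * D.T a) * (D.T a)⁻¹ := by
        simp only [← mul_assoc, D.ww, one_mul, mul_inv_cancel_right]
    _ = D.w * (D.T a)⁻¹ := by rw [h1, mul_one]

theorem rel' {a : ZMod 23} (ha : a ≠ 0) :
    D.w * D.U a * D.w = D.U a⁻¹ * D.w * D.U (-a) * D.T (-(a * a)) := D.rel a ha

/-- the normal form -/
def F (g : Matrix (Fin 2) (Fin 2) (ZMod 23)) : J :=
  if g 1 0 = 0 then D.U (g 0 1 / g 1 1) * D.T (g 0 0 / g 1 1)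
  else D.U (g 0 0 / g 1 0) * D.w * D.U (-(g 1 1 * g 1 0) / g.det) * D.T (-(g 1 0 * g 1 0) / g.det)

theorem F_upper {a b d : ZMod 23} : D.F !![a, b; 0, d] = D.U (b / d) * D.T (a / d) := by
  simp [F]

theorem F_big {a b c d : ZMod 23} (hc : c ≠ 0) : D.F !![a, b; c, d] =
    D.U (a / c) * D.w * D.U (-(d * c) / (a * d - b * c)) * D.T (-(c * c) / (a * d - b * c)) := by
  simp [F, hc, Matrix.det_fin_two]

theorem mul_unip {a b c d x : ZMod 23} (h : a * d - b * c ≠ 0) :
    D.F (!![a, b; c, d] * !![1, x; 0, 1]) = D.F !![a, b; c, d] * D.U x := by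
  have hm : !![a, b; c, d] * !![(1 : ZMod 23), x; 0, 1] = !![a, a * x + b; c, c * x + d] := by
    rw [Matrix.mul_fin_two]; ext i j; fin_cases i <;> fin_cases j <;> simp
  rw [hm]
  rcases eq_or_ne c 0 with rfl | hc
  · have hd : d ≠ 0 := by rintro rfl; simp at h
    have ha : a ≠ 0 := by rintro rfl; simp at h
    rw [zero_mul, zero_add, D.F_upper, D.F_upper, mul_assoc, D.T_U (div_ne_zero ha hd), ← mul_assoc,
      D.U_add]
    congr 2
    field_simp
    ring
  · have hdet : a * (c * x + d) - (a * x + b) * c = a * d - b * c := by ring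
    have hl : -(c * c) / (a * d - b * c) ≠ 0 := div_ne_zero (neg_ne_zero.2 (mul_ne_zero hc hc)) h
    rw [D.F_big hc, D.F_big hc, hdet, mul_assoc _ (D.T _) (D.U x), D.T_U hl, ← mul_assoc,
      mul_assoc (D.U (a / c) * D.w) (D.U _) (D.U _), D.U_add]
    congr 3
    field_simp
    ring

theorem mul_diag {a b c d e f : ZMod 23} (h : a * d - b * c ≠ 0) (he : e ≠ 0) (hf : f ≠ 0) :
    D.F (!![a, b; c, d] * !![e, 0; 0, f]) = D.F !![a, b; c, d] * D.T (e / f) := by
  have hm : !![a, b; c, d] * !![e, (0 : ZMod 23); 0, f] = !![a * e, b * f; c * e, d * f] := by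
    rw [Matrix.mul_fin_two]; ext i j; fin_cases i <;> fin_cases j <;> simp
  rw [hm]
  rcases eq_or_ne c 0 with rfl | hc
  · have hd : d ≠ 0 := by rintro rfl; simp at h
    have ha : a ≠ 0 := by rintro rfl; simp at h
    rw [zero_mul, D.F_upper, D.F_upper, mul_assoc (D.U _),
      D.T_mul (div_ne_zero ha hd) (div_ne_zero he hf)]
    congr 2 <;> field_simp
  · have hdet : a * e * (d * f) - b * f * (c * e) = (a * d - b * c) * (e * f) := by ring
    rw [D.F_big hc, D.F_big (mul_ne_zero hc he), hdet, mul_assoc _ (D.T _) (D.T _),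
      D.T_mul (div_ne_zero (neg_ne_zero.2 (mul_ne_zero hc hc)) h) (div_ne_zero he hf)]
    have i1 : a * e / (c * e) = a / c := mul_div_mul_right a c he
    have i2 : -(d * f * (c * e)) / ((a * d - b * c) * (e * f)) = -(d * c) / (a * d - b * c) := by
      rw [div_eq_div_iff (mul_ne_zero h (mul_ne_zero he hf)) h]; ring
    have i3 : -(c * e * (c * e)) / ((a * d - b * c) * (e * f)) =
        -(c * c) / (a * d - b * c) * (e / f) := by
      rw [div_mul_div_comm, div_eq_div_iff (mul_ne_zero h (mul_ne_zero he hf)) (mul_ne_zero h hf)]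
      ring
    rw [i1, i2, i3]

theorem mul_weyl {a b c d : ZMod 23} (h : a * d - b * c ≠ 0) :
    D.F (!![a, b; c, d] * !![0, 1; 1, 0]) = D.F !![a, b; c, d] * D.w := by
  have hm : !![a, b; c, d] * !![(0 : ZMod 23), 1; 1, 0] = !![b, a; d, c] := by
    rw [Matrix.mul_fin_two]; ext i j; fin_cases i <;> fin_cases j <;> simp
  rw [hm]
  rcases eq_or_ne c 0 with rfl | hc
  · have hd : d ≠ 0 := by rintro rfl; simp at h
    have ha : a ≠ 0 := by rintro rfl; simp at h
    rw [D.F_upper, D.F_big hd, mul_assoc (D.U (b / d)) (D.T _) D.w, D.w_T (div_ne_zero ha hd),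
      ← mul_assoc]
    have e1 : -(0 * d) / (b * 0 - a * d) = 0 := by simp
    have e2 : -(d * d) / (b * 0 - a * d) = (a / d)⁻¹ := by field_simp; ring
    rw [e1, e2, D.U_zero, mul_one]
  · rw [D.F_big hc]
    rcases eq_or_ne d 0 with rfl | hd
    · have hb : b ≠ 0 := by rintro rfl; simp at h
      have e1 : -(0 * c) / (a * 0 - b * c) = 0 := by simp
      have hl : -(c * c) / (a * 0 - b * c) ≠ 0 := div_ne_zero (neg_ne_zero.2 (mul_ne_zero hc hc)) h
      rw [D.F_upper, e1, D.U_zero, mul_one, mul_assoc _ (D.T _) D.w, D.w_T hl, mul_assoc (D.U _),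
        ← mul_assoc D.w D.w, D.ww, one_mul]
      congr 2
      field_simp
      ring
    · set p := -(d * c) / (a * d - b * c) with hp
      set l := -(c * c) / (a * d - b * c) with hlp
      have hl : l ≠ 0 := div_ne_zero (neg_ne_zero.2 (mul_ne_zero hc hc)) h
      have hp0 : p ≠ 0 := div_ne_zero (neg_ne_zero.2 (mul_ne_zero hd hc)) h
      have e : D.U (a / c) * D.w * D.U p * D.T l * D.w =
          D.U (a / c) * (D.w * D.U p * D.w) * D.T l⁻¹ := by
        rw [mul_assoc _ (D.T l) D.w, D.w_T hl]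
        simp only [mul_assoc]
      have h' : b * c - a * d ≠ 0 := fun hh => h (by linear_combination -hh)
      rw [D.F_big hd, e, D.rel' hp0]
      have e3 : -(p * p) ≠ 0 := neg_ne_zero.2 (mul_ne_zero hp0 hp0)
      simp only [← mul_assoc]
      rw [D.U_add, mul_assoc _ (D.T _) (D.T _), D.T_mul e3 (inv_ne_zero hl)]
      have hneg : b * c - a * d = -(a * d - b * c) := by ring
      have i1 : b / d = a / c + p⁻¹ := by rw [hp]; field_simp; ring
      have i2 : -(c * d) / (b * c - a * d) = -p := by rw [hp, hneg, div_neg, mul_comm d c]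
      have i3 : -(d * d) / (b * c - a * d) = -(p * p) * l⁻¹ := by
        rw [hneg, hp, hlp]
        field_simp
      rw [i1, i2, i3]

/-- the group of the matrices whose multiplication is respected -/
def Good (g : GL (Fin 2) (ZMod 23)) : Prop :=
  ∀ x : GL (Fin 2) (ZMod 23), D.F (x * g : GL (Fin 2) (ZMod 23)).val = D.F x.val * D.F g.val

theorem det_ne (x : GL (Fin 2) (ZMod 23)) : x.val 0 0 * x.val 1 1 - x.val 0 1 * x.val 1 0 ≠ 0 := by
  rw [← Matrix.det_fin_two]
  exact ((Matrix.isUnit_iff_isUnit_det _).1 x.isUnit).ne_zero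

theorem Good.mul {g₁ g₂ : GL (Fin 2) (ZMod 23)} (h₁ : D.Good g₁) (h₂ : D.Good g₂) :
    D.Good (g₁ * g₂) := fun x => by
  rw [← mul_assoc, h₂, h₁, h₂ g₁, mul_assoc]

theorem eta (m : Matrix (Fin 2) (Fin 2) (ZMod 23)) : m = !![m 0 0, m 0 1; m 1 0, m 1 1] :=
  Matrix.eta_fin_two m

theorem good_unip (x : ZMod 23) (g : GL (Fin 2) (ZMod 23)) (hg : g.val = !![1, x; 0, 1]) :
    D.Good g := fun y => by
  rw [Units.val_mul, hg, eta y.val, D.mul_unip (det_ne y), D.F_upper, div_one, div_one, D.T_one,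
    mul_one]

theorem good_diag (e f : ZMod 23) (he : e ≠ 0) (hf : f ≠ 0) (g : GL (Fin 2) (ZMod 23))
    (hg : g.val = !![e, 0; 0, f]) : D.Good g := fun y => by
  rw [Units.val_mul, hg, eta y.val, D.mul_diag (det_ne y) he hf, D.F_upper, zero_div, D.U_zero,
    one_mul]

theorem good_weyl (g : GL (Fin 2) (ZMod 23)) (hg : g.val = !![0, 1; 1, 0]) : D.Good g := fun y => by
  rw [Units.val_mul, hg, eta y.val, D.mul_weyl (det_ne y), D.F_big one_ne_zero]
  norm_num [D.U_zero, D.T_one]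

/-- an invertible matrix from its entries -/
noncomputable def glOf (m : Matrix (Fin 2) (Fin 2) (ZMod 23)) (h : m.det ≠ 0) :
    GL (Fin 2) (ZMod 23) := Matrix.GeneralLinearGroup.mkOfDetNeZero m h

theorem good_all (g : GL (Fin 2) (ZMod 23)) : D.Good g := by
  have hdet := det_ne g
  set a := g.val 0 0 with ha
  set b := g.val 0 1 with hb
  set c := g.val 1 0 with hc
  set d := g.val 1 1 with hd
  have hg : g.val = !![a, b; c, d] := eta g.val
  rcases eq_or_ne c 0 with h0 | h0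
  · have hd0 : d ≠ 0 := fun e => hdet (by rw [e, h0]; ring)
    have ha0 : a ≠ 0 := fun e => hdet (by rw [e, h0]; ring)
    have e : g = glOf !![1, b / d; 0, 1] (by simp [Matrix.det_fin_two]) *
        glOf !![a, 0; 0, d] (by simp [Matrix.det_fin_two, ha0, hd0]) := by
      refine Units.ext ?_
      rw [Units.val_mul, hg, h0]
      show _ = !![1, b / d; 0, 1] * !![a, 0; 0, d]
      rw [Matrix.mul_fin_two]
      ext i j; fin_cases i <;> fin_cases j <;> simp [hd0]
    rw [e]
    exact (D.good_unip _ _ rfl).mul D (D.good_diag a d ha0 hd0 _ rfl)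
  · have e : g = glOf !![1, a / c; 0, 1] (by simp [Matrix.det_fin_two]) *
        glOf !![0, 1; 1, 0] (by simp [Matrix.det_fin_two]) *
        glOf !![c, 0; 0, b - a * d / c] (by
          simp only [Matrix.det_fin_two_of, mul_zero, sub_zero, ne_eq, mul_eq_zero, not_or]
          refine ⟨h0, fun hh => hdet ?_⟩
          have := congrArg (· * c) hh
          simp only [zero_mul, sub_mul, div_mul_cancel₀ _ h0] at this
          linear_combination -this) *
        glOf !![1, d / c; 0, 1] (by simp [Matrix.det_fin_two]) := by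
      refine Units.ext ?_
      simp only [Units.val_mul]
      rw [hg]
      show _ = !![1, a / c; 0, 1] * !![0, 1; 1, 0] * !![c, 0; 0, b - a * d / c] * !![1, d / c; 0, 1]
      simp only [Matrix.mul_fin_two]
      ext i j; fin_cases i <;> fin_cases j <;> simp <;> field_simp <;> ring
    rw [e]
    refine Good.mul D (Good.mul D (Good.mul D (D.good_unip _ _ rfl) (D.good_weyl _ rfl)) ?_)
      (D.good_unip _ _ rfl)
    refine D.good_diag c _ h0 (fun hh => hdet ?_) _ rfl
    have := congrArg (· * c) hh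
    simp only [zero_mul, sub_mul, div_mul_cancel₀ _ h0] at this
    linear_combination -this

/-- the homomorphism from `GL₂(23)` -/
noncomputable def hom : GL (Fin 2) (ZMod 23) →* J :=
  MonoidHom.mk' (fun g => D.F g.val) fun x y => D.good_all y x

theorem pow_ne (a b : ℕ) (ha : a < 23) (h : D.u ^ a * D.h ^ b = 1) :
    a = 0 ∧ D.h ^ b = 1 := by
  have h1 : D.u ^ a = (D.h ^ b)⁻¹ := eq_inv_of_mul_eq_one_left h
  have h2 : (D.u ^ a) ^ 22 = 1 := by
    rw [h1, inv_pow, ← pow_mul, mul_comm, pow_mul, D.h22, one_pow, inv_one]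
  have ho : orderOf D.u = 23 := @orderOf_eq_prime _ _ _ _ ⟨by norm_num⟩ D.u23 D.u_ne
  rw [← pow_mul] at h2
  have h3 := orderOf_dvd_of_pow_eq_one h2
  rw [ho] at h3
  have h4 : 23 ∣ a := (Nat.Coprime.dvd_of_dvd_mul_right (by norm_num) h3)
  obtain rfl : a = 0 := Nat.eq_zero_of_dvd_of_lt h4 ha
  exact ⟨rfl, by simpa using h⟩

theorem T_eq_one {a : ZMod 23} (ha : a ≠ 0) (h : D.T a = 1) : a = 1 := by
  have hd : orderOf D.h = 22 := by
    rw [orderOf_eq_iff (by norm_num)]
    refine ⟨D.h22, fun m hm h0 e => ?_⟩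
    have hg : D.h ^ Nat.gcd m 22 = 1 := pow_gcd_eq_one.2 ⟨e, D.h22⟩
    interval_cases m <;> norm_num at hg <;>
      first
        | exact D.h11 hg
        | exact D.h2 hg
        | exact D.h2 (by rw [hg, one_pow])
  have h1 : orderOf D.h ∣ dlog a := orderOf_dvd_of_pow_eq_one h
  rw [hd] at h1
  have h2 : dlog a = 0 := Nat.eq_zero_of_dvd_of_lt h1 (dlog_lt a)
  rw [← pow_dlog a ha, h2, pow_zero]

theorem hom_ker : D.hom.ker = Subgroup.center (GL (Fin 2) (ZMod 23)) := by
  ext g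
  have hdet := det_ne g
  constructor
  · intro hk
    replace hk : D.F g.val = 1 := hk
    have hc : g.val 1 0 = 0 := by
      by_contra hc
      rw [eta g.val, D.F_big hc] at hk
      set r := g.val 0 0 / g.val 1 0
      set p := -(g.val 1 1 * g.val 1 0) / (g.val 0 0 * g.val 1 1 - g.val 0 1 * g.val 1 0)
      set l := -(g.val 1 0 * g.val 1 0) / (g.val 0 0 * g.val 1 1 - g.val 0 1 * g.val 1 0)
      have hl : l ≠ 0 := div_ne_zero (neg_ne_zero.2 (mul_ne_zero hc hc)) hdet
      -- hence the Weyl element would lie in the Borel subgroup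
      have h1 : D.w = (D.U r)⁻¹ * ((D.T l)⁻¹ * (D.U p)⁻¹) := by
        calc D.w = (D.U r)⁻¹ * (D.U r * D.w * D.U p * D.T l) * ((D.T l)⁻¹ * (D.U p)⁻¹) := by group
          _ = _ := by rw [hk, mul_one]
      have hU : ∀ x, (D.U x)⁻¹ = D.U (-x) := fun x => inv_eq_of_mul_eq_one_right (by
        rw [D.U_add, add_neg_cancel, D.U_zero])
      have hT : (D.T l)⁻¹ = D.T l⁻¹ := inv_eq_of_mul_eq_one_right (by
        rw [D.T_mul hl (inv_ne_zero hl), mul_inv_cancel₀ hl, D.T_one])
      rw [hU, hU, hT, D.T_U (inv_ne_zero hl), ← mul_assoc, D.U_add] at h1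
      set q := -r + l⁻¹ * -p
      -- then conjugation by it both fixes and inverts the torus modulo the unipotent subgroup
      have h2 := D.wh
      rw [h1] at h2
      have h5 : D.h = D.T 5 := by
        show D.h = D.h ^ dlog 5
        rw [show dlog 5 = 1 by decide, pow_one]
      have h50 : (5 : ZMod 23) ≠ 0 := by decide
      rw [h5, mul_assoc (D.U q), D.T_mul (inv_ne_zero hl) h50, mul_assoc (D.U q) (D.T _),
        ← mul_assoc (D.T (l⁻¹ * 5)), D.T_U (mul_ne_zero (inv_ne_zero hl) h50), mul_assoc _ (D.T _),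
        D.T_mul (mul_ne_zero (inv_ne_zero hl) h50) (mul_ne_zero (inv_ne_zero hl) h50), ← mul_assoc,
        D.U_add] at h2
      obtain ⟨-, h3⟩ := D.pow_ne _ _ (ZMod.val_lt _) h2
      have h4 := D.T_eq_one (mul_ne_zero (mul_ne_zero (inv_ne_zero hl) h50)
        (mul_ne_zero (inv_ne_zero hl) h50)) h3
      -- and `w * w = 1` makes the torus part an involution
      have h6 := D.ww
      rw [h1, mul_assoc (D.U q), ← mul_assoc (D.T l⁻¹), D.T_U (inv_ne_zero hl), mul_assoc _ (D.T _),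
        D.T_mul (inv_ne_zero hl) (inv_ne_zero hl), ← mul_assoc, D.U_add] at h6
      obtain ⟨-, h7⟩ := D.pow_ne _ _ (ZMod.val_lt _) h6
      have h8 := D.T_eq_one (mul_ne_zero (inv_ne_zero hl) (inv_ne_zero hl)) h7
      have h9 : (25 : ZMod 23) = 1 := by linear_combination h4 - 25 * h8
      exact absurd h9 (by decide)
    have hd0 : g.val 1 1 ≠ 0 := fun e => hdet (by rw [e, hc]; ring)
    have ha0 : g.val 0 0 ≠ 0 := fun e => hdet (by rw [e, hc]; ring)
    rw [eta g.val, hc, D.F_upper] at hk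
    obtain ⟨h1, h2⟩ := D.pow_ne _ _ (ZMod.val_lt _) hk
    have h3 : g.val 0 1 = 0 :=
      (div_eq_zero_iff.1 ((ZMod.val_eq_zero _).1 h1)).resolve_right hd0
    have h4 : g.val 0 0 = g.val 1 1 := eq_of_div_eq_one (D.T_eq_one (div_ne_zero ha0 hd0) h2)
    have hs : g.val = g.val 1 1 • (1 : Matrix (Fin 2) (Fin 2) (ZMod 23)) := by
      ext i j; fin_cases i <;> fin_cases j <;> simp [hc, h3, h4]
    rw [Subgroup.mem_center_iff]
    intro x
    refine Units.ext ?_
    rw [Units.val_mul, Units.val_mul, hs]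
    simp
  · intro hz
    rw [Subgroup.mem_center_iff] at hz
    have h1 := congrArg Units.val (hz (glOf !![1, 1; 0, 1] (by simp [Matrix.det_fin_two])))
    have h2 := congrArg Units.val (hz (glOf !![1, 0; 1, 1] (by simp [Matrix.det_fin_two])))
    rw [Units.val_mul, Units.val_mul] at h1 h2
    change !![(1 : ZMod 23), 1; 0, 1] * g.val = g.val * !![1, 1; 0, 1] at h1
    change !![(1 : ZMod 23), 0; 1, 1] * g.val = g.val * !![1, 0; 1, 1] at h2
    have c0 := congrFun (congrFun h1 0) 0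
    have a0 := congrFun (congrFun h1 0) 1
    have b0 := congrFun (congrFun h2 0) 0
    simp [Matrix.mul_apply, Fin.sum_univ_two] at c0 a0 b0
    have hc : g.val 1 0 = 0 := by linear_combination c0
    have hb : g.val 0 1 = 0 := by linear_combination b0
    have ha : g.val 0 0 = g.val 1 1 := by linear_combination -a0
    have hd0 : g.val 1 1 ≠ 0 := fun e => hdet (by rw [e, hc]; ring)
    show D.F g.val = 1
    rw [eta g.val, hc, D.F_upper, hb, ha, zero_div, div_self hd0, D.U_zero, D.T_one, one_mul]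

/-- the subgroup generated is `PGL₂(23)` -/
theorem exists_pgl (D : Data J) : ∃ K : Subgroup J,
    Nonempty (↥K ≃* GL (Fin 2) (ZMod 23) ⧸ Subgroup.center (GL (Fin 2) (ZMod 23))) :=
  ⟨D.hom.range, ⟨((QuotientGroup.quotientMulEquivOfEq D.hom_ker).symm.trans
    (QuotientGroup.quotientKerEquivRange D.hom)).symm⟩⟩

end Data

end Cfsg.Agent.Lib.J4PGL88
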