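import Cfsg.Agent.Lib.J4Rep72.Check
import Cfsg.Agent.Lib.J4PGL88.Data

/-! Products of the packed matrices, checked in the kernel. -/

namespace Cfsg.Agent.Lib.J4PGL88

open Cfsg.Agent.Lib.J4Rep72

/-- rows of a packed matrix -/
noncomputable def unpack (n : ℕ) : List ℕ :=
  (List.range 112).map fun i => (n >>> (112 * i)) % 2 ^ 112

/-- the matrix with a given index -/
noncomputable def mat (n : ℕ) : List ℕ :=
  unpack ((packs.getD (n / 40) []).getD (n % 40) 0)

theorem len_mat (n : ℕ) : (mat n).length = 112 := by simp [mat, unpack]

/-- equality of lists of numbers -/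
noncomputable def eqL (A : List ℕ) : List ℕ → Bool :=
  List.rec (motive := fun _ => List ℕ → Bool)
    (fun L => List.rec (motive := fun _ => Bool) true (fun _ _ _ => false) L)
    (fun a _ ih L => List.rec (motive := fun _ => Bool) false (fun b bs _ => Nat.beq a b && ih bs) L)
    A

theorem eq_of_eqL {A L : List ℕ} (h : eqL A L = true) : A = L := by
  unfold eqL at h
  induction A generalizing L with
  | nil => cases L <;> simp_all
  | cons a A ih =>
    cases L with
    | nil => simp at h
    | cons b L =>
      simp only [Bool.and_eq_true] at h
      rw [Nat.eq_of_beq_eq_true h.1, ih h.2]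

theorem eqL_refl (A : List ℕ) : eqL A A = true := by
  induction A with
  | nil => rfl
  | cons a A ih =>
    show (Nat.beq a a && eqL A A) = true
    rw [ih, Nat.beq_refl]; rfl

/-- step `n` is correct and only uses earlier matrices -/
noncomputable def stepOk (n : ℕ) : Bool :=
  let s := steps.getD n (0, 0)
  Nat.ble (s.1 + 1) (5 + n) && (Nat.ble (s.2 + 1) (5 + n) &&
    eqL (mulM (mat s.1) (mat s.2)) (mat (5 + n)))

theorem base1 : eqL (mat 1) (matLet 0) = true := by decide +kernel
theorem base2 : eqL (mat 2) (matLet 1) = true := by decide +kernel
theorem base3 : eqL (mat 3) (matLet 2) = true := by decide +kernel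
theorem base4 : eqL (mat 4) (matLet 3) = true := by decide +kernel
theorem base0 : eqL (mat 0) oneM = true := by decide +kernel

theorem steps0 : ((List.range' 0 48).all stepOk) = true := by decide +kernel
theorem steps1 : ((List.range' 48 48).all stepOk) = true := by decide +kernel
theorem steps2 : ((List.range' 96 48).all stepOk) = true := by decide +kernel
theorem steps3 : ((List.range' 144 48).all stepOk) = true := by decide +kernel
theorem steps4 : ((List.range' 192 48).all stepOk) = true := by decide +kernel
theorem steps5 : ((List.range' 240 48).all stepOk) = true := by decide +kernel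
theorem steps6 : ((List.range' 288 49).all stepOk) = true := by decide +kernel

/-- the stored powers continue correctly -/
noncomputable def powOk (base i k : ℕ) : Bool :=
  eqL (mulM (mat (base + k)) (mat i)) (mat (base + (k + 1)))

theorem powU : ((List.range 23).all (powOk bU iu)) = true := by decide +kernel
theorem powH : ((List.range 22).all (powOk bH ih)) = true := by decide +kernel
theorem startU : eqL (mat bU) oneM = true := by decide +kernel
theorem startH : eqL (mat bH) oneM = true := by decide +kernel
theorem endU : eqL (mat (bU + 23)) oneM = true := by decide +kernel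
theorem endH : eqL (mat (bH + 22)) oneM = true := by decide +kernel

theorem sqW : eqL (mulM (mat iw) (mat iw)) oneM = true := by decide +kernel
theorem conjHU : eqL (mulM (mat ih) (mat iu)) (mulM (mat (bU + 5)) (mat ih)) = true := by
  decide +kernel
theorem conjWH : eqL (mulM (mulM (mat iw) (mat ih)) (mulM (mat iw) (mat ih))) oneM = true := by
  decide +kernel

/-- the relation between `w u ^ a w` and its Bruhat form -/
noncomputable def relOk (a : ℕ) : Bool :=
  eqL (mulM (mulM (mat iw) (mat (bU + a))) (mat iw))
    (mulM (mulM (mulM (mat (bU + invTab.getD a 0)) (mat iw)) (mat (bU + (23 - a))))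
      (mat (bH + logTab.getD ((23 - a * a % 23) % 23) 0)))

theorem rels : ((List.range' 1 22).all relOk) = true := by decide +kernel

theorem u_ne : eqL (mat iu) oneM = false := by decide +kernel
theorem h11_ne : eqL (mat (bH + 11)) oneM = false := by decide +kernel
theorem h2_ne : eqL (mat (bH + 2)) oneM = false := by decide +kernel

end Cfsg.Agent.Lib.J4PGL88
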