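import Cfsg.Agent.Lib.J4Rep72.Rep
import Cfsg.Agent.Lib.J4M24Iso96.GL
import Cfsg.Agent.Lib.J4PGL88.Check
import Cfsg.Agent.Lib.J4PGL88.Bruhat

/-!
The presented fourth Janko group has a subgroup isomorphic to `PGL₂(23)`.
-/

set_option autoImplicit false

namespace Cfsg.Agent.Lib.J4PGL88

open Cfsg.Spor Cfsg.Agent.Lib.J4Rep72

attribute [local irreducible] toMat mat matLet

/-- the matrix group -/
abbrev MU : Type := (Matrix (Fin 112) (Fin 112) (ZMod 2))ˣ

theorem rep_of (g : J4.Gen) : rep (PresentedGroup.of g : J4) = unitGen g :=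
  PresentedGroup.toGroup.of rels_one

theorem rep_injective [IsSimpleGroup J4] : Function.Injective rep := by
  rw [← MonoidHom.ker_eq_bot_iff]
  refine (IsSimpleGroup.eq_bot_or_eq_top_of_normal _ rep.normal_ker).resolve_right fun e => ?_
  have h1 : rep (PresentedGroup.of J4.Gen.x : J4) = 1 :=
    MonoidHom.mem_ker.1 (e ▸ Subgroup.mem_top _)
  exact J4M24Iso96.rep_x_ne_one h1

theorem stepOk_of_lt {n : ℕ} (hn : n < 337) : stepOk n = true := by
  rcases Nat.lt_or_ge n 48 with h | h
  · exact List.all_eq_true.1 steps0 n (List.mem_range'_1.2 (by omega))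
  rcases Nat.lt_or_ge n 96 with h | h
  · exact List.all_eq_true.1 steps1 n (List.mem_range'_1.2 (by omega))
  rcases Nat.lt_or_ge n 144 with h | h
  · exact List.all_eq_true.1 steps2 n (List.mem_range'_1.2 (by omega))
  rcases Nat.lt_or_ge n 192 with h | h
  · exact List.all_eq_true.1 steps3 n (List.mem_range'_1.2 (by omega))
  rcases Nat.lt_or_ge n 240 with h | h
  · exact List.all_eq_true.1 steps4 n (List.mem_range'_1.2 (by omega))
  rcases Nat.lt_or_ge n 288 with h | h
  · exact List.all_eq_true.1 steps5 n (List.mem_range'_1.2 (by omega))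
  · exact List.all_eq_true.1 steps6 n (List.mem_range'_1.2 (by omega))

/-- every matrix of the program is represented -/
theorem mem_rep : ∀ n, n < 342 → ∃ g : J4,
    ((rep g : MU) : Matrix (Fin 112) (Fin 112) (ZMod 2)) = toMat (mat n) := by
  intro n
  induction n using Nat.strong_induction_on with
  | _ n ih =>
    intro hn
    rcases Nat.lt_or_ge n 5 with h5 | h5
    · interval_cases n
      · exact ⟨1, by rw [map_one, Units.val_one, eq_of_eqL base0, toMat_oneM]⟩
      · refine ⟨PresentedGroup.of J4.Gen.x, ?_⟩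
        rw [rep_of, eq_of_eqL base1]; exact coe_letVal (l := 0) (by omega)
      · refine ⟨PresentedGroup.of J4.Gen.y, ?_⟩
        rw [rep_of, eq_of_eqL base2]; exact coe_letVal (l := 1) (by omega)
      · refine ⟨(PresentedGroup.of J4.Gen.y)⁻¹, ?_⟩
        rw [map_inv, rep_of, eq_of_eqL base3]; exact coe_letVal (l := 2) (by omega)
      · refine ⟨PresentedGroup.of J4.Gen.t, ?_⟩
        rw [rep_of, eq_of_eqL base4]; exact coe_letVal (l := 3) (by omega)
    obtain ⟨m, rfl⟩ : ∃ m, n = 5 + m := ⟨n - 5, by omega⟩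
    have hs := stepOk_of_lt (show m < 337 by omega)
    unfold stepOk at hs
    simp only [Bool.and_eq_true, Nat.ble_eq] at hs
    obtain ⟨hi, hj, he⟩ := hs
    obtain ⟨a, ha⟩ := ih (steps.getD m (0, 0)).1 (by omega) (by omega)
    obtain ⟨b, hb⟩ := ih (steps.getD m (0, 0)).2 (by omega) (by omega)
    refine ⟨a * b, ?_⟩
    rw [← eq_of_eqL he, toMat_mulM (len_mat _), map_mul, Units.val_mul, ha, hb]

theorem iu_lt : iu < 342 := by decide
theorem ih_lt : ih < 342 := by decide
theorem iw_lt : iw < 342 := by decide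

/-- unipotent element -/
noncomputable def eu : J4 := (mem_rep iu iu_lt).choose
/-- torus element -/
noncomputable def eh : J4 := (mem_rep ih ih_lt).choose
/-- Weyl element -/
noncomputable def ew : J4 := (mem_rep iw iw_lt).choose

/-- matrix of an element -/
noncomputable def R (g : J4) : Matrix (Fin 112) (Fin 112) (ZMod 2) := ((rep g : MU) : Matrix _ _ _)

theorem R_u : R eu = toMat (mat iu) := (mem_rep iu iu_lt).choose_spec
theorem R_h : R eh = toMat (mat ih) := (mem_rep ih ih_lt).choose_spec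
theorem R_w : R ew = toMat (mat iw) := (mem_rep iw iw_lt).choose_spec

theorem R_one : R 1 = 1 := by simp [R]

theorem R_mul (a b : J4) : R (a * b) = R a * R b := by simp [R]

theorem eq_of_R [IsSimpleGroup J4] {a b : J4} (h : R a = R b) : a = b := rep_injective (Units.ext h)

theorem R_pow {b i : ℕ} {g : J4} (hg : R g = toMat (mat i)) (h0 : eqL (mat b) oneM = true) {N : ℕ}
    (hp : (List.range N).all (powOk b i) = true) : ∀ k, k ≤ N → R (g ^ k) = toMat (mat (b + k))
  | 0, _ => by rw [pow_zero, R_one, Nat.add_zero, eq_of_eqL h0, toMat_oneM]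
  | k + 1, hk => by
    have h1 := List.all_eq_true.1 hp k (List.mem_range.2 (by omega))
    rw [pow_succ, R_mul, hg, R_pow hg h0 hp k (by omega), ← toMat_mulM (len_mat _), eq_of_eqL h1]

theorem R_upow {k : ℕ} (hk : k ≤ 23) : R (eu ^ k) = toMat (mat (bU + k)) :=
  R_pow R_u startU powU k hk

theorem R_hpow {k : ℕ} (hk : k ≤ 22) : R (eh ^ k) = toMat (mat (bH + k)) :=
  R_pow R_h startH powH k hk

theorem toMat_inj {A B : List ℕ} (hA : A.length = 112) (hB : B.length = 112)
    (hAb : ∀ r ∈ A, r < 2 ^ 112) (hBb : ∀ r ∈ B, r < 2 ^ 112) (h : toMat A = toMat B) : A = B := by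
  refine List.ext_getElem (hA.trans hB.symm) fun i h1 h2 => Nat.eq_of_testBit_eq fun j => ?_
  rcases Nat.lt_or_ge j 112 with hj | hj
  · have := congrFun (congrFun h ⟨i, hA ▸ h1⟩) ⟨j, hj⟩
    unfold toMat at this
    rw [List.getD_eq_getElem _ _ h1, List.getD_eq_getElem _ _ h2] at this
    revert this
    cases A[i].testBit j <;> cases B[i].testBit j <;> simp [bitZ]
  · rw [Nat.testBit_lt_two_pow ((hAb _ (List.getElem_mem h1)).trans_le (Nat.pow_le_pow_right two_pos hj)),
      Nat.testBit_lt_two_pow ((hBb _ (List.getElem_mem h2)).trans_le (Nat.pow_le_pow_right two_pos hj))]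

theorem mat_lt (n : ℕ) : ∀ r ∈ mat n, r < 2 ^ 112 := by
  intro r hr
  unfold mat unpack at hr
  obtain ⟨i, -, rfl⟩ := List.mem_map.1 hr
  exact Nat.mod_lt _ (by positivity)

theorem oneM_lt : ∀ r ∈ oneM, r < 2 ^ 112 := by
  intro r hr
  unfold oneM at hr
  obtain ⟨i, hi, rfl⟩ := List.mem_map.1 hr
  exact Nat.pow_lt_pow_right one_lt_two (List.mem_range.1 hi)

theorem ne_one_of {g : J4} {n : ℕ} (hg : R g = toMat (mat n)) (hn : eqL (mat n) oneM = false) :
    g ≠ 1 := by
  intro h
  rw [h, R_one, ← toMat_oneM] at hg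
  rw [← toMat_inj (by simp [oneM]) (len_mat n) oneM_lt (mat_lt n) hg, eqL_refl] at hn
  exact Bool.noConfusion hn

theorem tables : ∀ a : ZMod 23, a ≠ 0 → a⁻¹.val = invTab.getD a.val 0 ∧ (-a).val = 23 - a.val ∧
    dlog (-(a * a)) = logTab.getD ((23 - a.val * a.val % 23) % 23) 0 := by decide +kernel

/-- the elements satisfy the relations -/
noncomputable def pglData [IsSimpleGroup J4] : Data J4 where
  u := eu
  h := eh
  w := ew
  u23 := eq_of_R (by rw [R_upow le_rfl, eq_of_eqL endU, toMat_oneM, R_one])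
  h22 := eq_of_R (by rw [R_hpow le_rfl, eq_of_eqL endH, toMat_oneM, R_one])
  ww := eq_of_R (by rw [R_mul, R_w, ← toMat_mulM (len_mat _), eq_of_eqL sqW, toMat_oneM, R_one])
  hu := eq_of_R (by
    rw [R_mul, R_mul, R_upow (by norm_num), R_h, R_u, ← toMat_mulM (len_mat _),
      ← toMat_mulM (len_mat _), eq_of_eqL conjHU])
  wh := eq_of_R (by
    have hlen : (mulM (mat iw) (mat ih)).length = 112 := by rw [length_mulM, len_mat]
    rw [R_mul, R_mul, R_w, R_h, ← toMat_mulM (len_mat _), ← toMat_mulM hlen, eq_of_eqL conjWH,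
      toMat_oneM, R_one])
  rel := fun a ha => eq_of_R (by
    obtain ⟨e1, e2, e3⟩ := tables a ha
    have hl := dlog_lt (-(a * a))
    have hv := a.val_lt
    have hv0 : a.val ≠ 0 := fun h => ha ((ZMod.val_eq_zero a).1 h)
    have h1 := List.all_eq_true.1 rels a.val (List.mem_range'_1.2 (by omega))
    simp only [R_mul]
    rw [R_w, R_upow hv.le, R_upow (ZMod.val_lt _).le, R_upow (ZMod.val_lt _).le, R_hpow hl.le, e1,
      e2, e3]
    simp only [← toMat_mulM (len_mat _)]
    exact congrArg toMat (eq_of_eqL h1))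
  u_ne := ne_one_of R_u u_ne
  h11 := ne_one_of (R_hpow (by norm_num)) h11_ne
  h2 := ne_one_of (R_hpow (by norm_num)) h2_ne

/-- the presented fourth Janko group contains `PGL₂(23)` -/
theorem exists_pgl_two_twentythree [IsSimpleGroup J4] : ∃ K : Subgroup J4,
    Nonempty (↥K ≃* GL (Fin 2) (ZMod 23) ⧸ Subgroup.center (GL (Fin 2) (ZMod 23))) :=
  Data.exists_pgl pglData

/-- the same for every group isomorphic to the fourth Janko group -/
theorem exists_pgl_of_iso {G : Type*} [Group G] [IsSimpleGroup G] (e : Spor.IsoJ4 G) : ∃ K : Subgroup G,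
    Nonempty (↥K ≃* GL (Fin 2) (ZMod 23) ⧸ Subgroup.center (GL (Fin 2) (ZMod 23))) := by
  obtain ⟨f⟩ := e
  have := f.symm.isSimpleGroup
  obtain ⟨K, ⟨i⟩⟩ := exists_pgl_two_twentythree
  exact ⟨K.map f.symm.toMonoidHom, ⟨(f.symm.subgroupMap K).symm.trans i⟩⟩

end Cfsg.Agent.Lib.J4PGL88
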